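import Cfsg.Agent.Lib.OutSol32.Basic

/-!
# S3065 given the odd order theorem
-/

set_option autoImplicit false

namespace Cfsg.Agent.Lib.OutSol32.Row3065

universe u

theorem main (hFT : FTDeps.Basic.OddOrderSolvable.{u}) {G : Type u} [Group G] [Finite G] [IsSimpleGroup G]
    (S : Sylow 2 G) (hS1 : (S : Subgroup G) ≠ ⊥) (hS : Group.IsSolvable (MulAut ↥S)) :
    Group.IsSolvable (Cfsg.Out G) := by
  refine Basic.isSolvable_out hFT (fun N hN hodd => ?_) S ?_
  · rcases hN.eq_bot_or_eq_top with h | h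
    · exact h
    · have h2 : 2 ∣ Nat.card G := by
        obtain ⟨k, hk⟩ := S.isPGroup'.exists_card_eq
        have hk0 : k ≠ 0 := fun h0 => hS1 (Subgroup.card_eq_one.1 (by rw [hk, h0, pow_zero]))
        exact ((dvd_pow_self 2 hk0).trans hk.symm.dvd).trans (Subgroup.card_subgroup_dvd_card _)
      rw [h, Subgroup.card_top] at hodd
      exact absurd h2 (Nat.two_dvd_ne_zero.2 (Nat.odd_iff.1 hodd))
  · haveI := hS
    infer_instance

end Cfsg.Agent.Lib.OutSol32.Row3065
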