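import Cfsg.Prelude.Def_KGroupFacts
import Cfsg.Agent.Lib.Balance.FixingPerfect
import Cfsg.Agent.Lib.ZStar.StronglyClosed
import Cfsg.Agent.Lib.FTDeps.Basic

/-!
# Solvability of the outer automorphism group from the automorphisms of a Sylow 2-subgroup
-/

set_option autoImplicit false

namespace Cfsg.Agent.Lib.OutSol32.Basic

open scoped Pointwise
open Cfsg.Agent.Lib.FTDeps.Basic (OddOrderSolvable)

universe u

variable {G : Type u} [Group G]

/-- The automorphisms mapping `S` onto itself. -/
def stab (S : Subgroup G) : Subgroup (MulAut G) where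
  carrier := {φ | ∀ x, φ x ∈ S ↔ x ∈ S}
  one_mem' := fun _ => Iff.rfl
  mul_mem' := fun {a b} ha hb x => (ha (b x)).trans (hb x)
  inv_mem' := fun {a} ha x => by simpa using (ha (a⁻¹ x)).symm

/-- Restriction of automorphisms to an invariant subgroup. -/
def restrict (S : Subgroup G) : stab S →* MulAut S where
  toFun φ :=
    { toFun := fun x => ⟨φ.1 x, (φ.2 x).2 x.2⟩
      invFun := fun x => ⟨φ.1⁻¹ x, ((inv_mem φ.2) x).2 x.2⟩
      left_inv := fun x => Subtype.ext (by simp)
      right_inv := fun x => Subtype.ext (by simp)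
      map_mul' := fun x y => Subtype.ext (map_mul φ.1 _ _) }
  map_one' := rfl
  map_mul' _ _ := rfl

theorem isSolvable_ker [Finite G] (hFT : OddOrderSolvable.{u})
    (hO : ∀ N : Subgroup G, N.Normal → Odd (Nat.card N) → N = ⊥) (S : Sylow 2 G) :
    Group.IsSolvable ↥(restrict (S : Subgroup G)).ker := by
  classical
  haveI : Finite (MulAut G) :=
    Finite.of_injective (fun φ : MulAut G => (φ : G → G)) DFunLike.coe_injective
  set K := (restrict (S : Subgroup G)).ker with hK
  obtain ⟨n, hn⟩ := WellFoundedLT.antitone_chain_condition (derivedSeries_antitone ↥K)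
  have hstep : derivedSeries ↥K (n + 1) = derivedSeries ↥K n := (hn (n + 1) n.le_succ).symm
  set D := derivedSeries ↥K n with hD
  have hperf : ⁅D, D⁆ = D := by rwa [derivedSeries_succ] at hstep
  let ι : ↥K →* MulAut G := (stab (S : Subgroup G)).subtype.comp K.subtype
  have hι : Function.Injective ι := Subtype.val_injective.comp Subtype.val_injective
  have hodd : Odd (Nat.card ↥(D.map ι)) := by
    refine Balance.Fixing.card_odd_of_perfect ZStar.StronglyClosed.involutionThm hO S _
      (by rw [← Subgroup.map_commutator, hperf]) ?_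
    rintro _ ⟨k, _, rfl⟩ s hs
    exact congrArg Subtype.val (MulEquiv.congr_fun (MonoidHom.mem_ker.1 k.2) ⟨s, hs⟩)
  haveI : Group.IsSolvable ↥D := by
    haveI := hFT ↥(D.map ι) hodd
    exact Group.isSolvable_of_isSolvable_injective (f := (D.equivMapOfInjective ι hι).toMonoidHom)
      (D.equivMapOfInjective ι hι).injective
  have hbot : D = ⊥ := by
    by_contra hne
    haveI := (Subgroup.nontrivial_iff_ne_bot D).2 hne
    refine (Group.IsSolvable.commutator_lt_top_of_nontrivial ↥D).ne
      ((Subgroup.map_injective D.subtype_injective) ?_)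
    rw [commutator_def, Subgroup.map_commutator, ← MonoidHom.range_eq_map, Subgroup.range_subtype,
      hperf]
  exact ⟨⟨n, hbot⟩⟩

/-- The outer automorphism group is solvable when the automorphisms induced on a Sylow 2-subgroup
form a solvable group. -/
theorem isSolvable_out [Finite G] (hFT : OddOrderSolvable.{u})
    (hO : ∀ N : Subgroup G, N.Normal → Odd (Nat.card N) → N = ⊥) (S : Sylow 2 G)
    (hS : Group.IsSolvable ↥(restrict (S : Subgroup G)).range) : Group.IsSolvable (Cfsg.Out G) := by
  haveI := isSolvable_ker hFT hO S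
  haveI : Group.IsSolvable ↥(stab (S : Subgroup G)) :=
    Group.isSolvable_of_ker_le_range (restrict (S : Subgroup G)).ker.subtype
      (restrict (S : Subgroup G)).rangeRestrict (by rw [Subgroup.range_subtype, MonoidHom.ker_rangeRestrict])
  refine Group.isSolvable_of_surjective
    (f := (QuotientGroup.mk' (Cfsg.Inn G)).comp (stab (S : Subgroup G)).subtype) fun q => ?_
  obtain ⟨φ, rfl⟩ := QuotientGroup.mk'_surjective (Cfsg.Inn G) q
  obtain ⟨g, hg⟩ := MulAction.exists_smul_eq G S (φ • S)
  have hfix : ((MulAut.conj g)⁻¹ * φ) • S = S := by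
    rw [mul_smul, ← hg, Sylow.smul_def, ← mul_smul, inv_mul_cancel, one_smul]
  have hmem : (MulAut.conj g)⁻¹ * φ ∈ stab (S : Subgroup G) := fun x => by
    have h1 : ((MulAut.conj g)⁻¹ * φ) • (S : Subgroup G) = (S : Subgroup G) := by
      have := congrArg Sylow.toSubgroup hfix
      exact this
    conv_lhs => rw [← h1]
    exact Subgroup.smul_mem_pointwise_smul_iff
  refine ⟨⟨_, hmem⟩, ?_⟩
  change QuotientGroup.mk' (Cfsg.Inn G) ((MulAut.conj g)⁻¹ * φ) = QuotientGroup.mk' (Cfsg.Inn G) φ
  rw [map_mul, map_inv, mul_eq_right, inv_eq_one]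
  exact (QuotientGroup.eq_one_iff _).2 ⟨g, rfl⟩

end Cfsg.Agent.Lib.OutSol32.Basic
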